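import Groth.Agent.EtAcyc.K361.TreeAlg
import Groth.Agent.EtAcyc.K153.TreeDef
import Groth.Agent.AlgSt.K747.EtCoord

/-!
# Job 376 (TREE-CONV): from strong certificates to relative certificates over an algebraically closed field

* `K361.TreeConv.conv`: the statement of `K153.Plan.conv`.
-/

set_option autoImplicit false
universe u

open CategoryTheory CategoryTheory.Limits AlgebraicGeometry TopologicalSpace

namespace K361.TreeConv

open K153.TreeDef K556.CertDef

theorem LocPrinc.preimage {X Y : Scheme.{u}} (f : Y ⟶ X) {V : X.Opens} (h : LocPrinc V) :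
    LocPrinc (f ⁻¹ᵁ V) := by
  intro y
  obtain ⟨W, hW, a, hy, ha⟩ := h (f y)
  obtain ⟨W', hW', hyW', hle⟩ := exists_isAffineOpen_mem_and_subset (X := Y) (x := y) (U := f ⁻¹ᵁ W) hy
  refine ⟨W', hW', Y.presheaf.map (homOfLE hle).op (f.app W a), hyW', fun y' hy' => ?_⟩
  rw [Scheme.basicOpen_res]
  change f y' ∈ V ↔ _
  rw [ha (f y') (hle hy')]
  constructor
  · intro h1
    refine ⟨hy', ?_⟩
    rw [← Scheme.preimage_basicOpen]
    exact h1
  · rintro ⟨-, h1⟩
    rw [← Scheme.preimage_basicOpen] at h1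
    exact h1

/-- Locally, `V` is given by a global function. -/
theorem exists_global {R : Type u} [CommRing R] {V : (Spec (CommRingCat.of R)).Opens} (h : LocPrinc V)
    (x : PrimeSpectrum R) :
    ∃ s f : R, s ∉ x.asIdeal ∧ ∀ y : PrimeSpectrum R, s ∉ y.asIdeal → (y ∈ V ↔ f ∉ y.asIdeal) := by
  obtain ⟨W, -, a, hx, ha⟩ := h x
  let X := Spec (CommRingCat.of R)
  let e := (Scheme.ΓSpecIso (CommRingCat.of R))
  obtain ⟨s, hsW, hxs⟩ := (isAffineOpen_top X).exists_basicOpen_le (V := W) ⟨x, hx⟩ trivial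
  let a₁ : Γ(X, X.basicOpen s) := X.presheaf.map (homOfLE hsW).op a
  have hloc := (isAffineOpen_top X).isLocalization_basicOpen s
  obtain ⟨n, f, hf⟩ := IsLocalization.Away.surj s a₁
  have hmem : ∀ (r : Γ(X, ⊤)) (y : PrimeSpectrum R), (y : X) ∈ X.basicOpen r ↔ e.hom r ∉ y.asIdeal := by
    intro r y
    have h1 : X.basicOpen r = PrimeSpectrum.basicOpen (e.hom r) := by
      have h2 := basicOpen_eq_of_affine (R := CommRingCat.of R) (e.hom r)
      rw [← h2]
      congr 1
      exact congr($(e.hom_inv_id).hom r).symm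
    rw [h1]
    rfl
  refine ⟨e.hom s, e.hom f, (hmem s x).1 hxs, fun y hy => ?_⟩
  have hys : (y : X) ∈ X.basicOpen s := (hmem s y).2 hy
  refine (ha y (hsW hys)).trans (Iff.trans ?_ (hmem f y))
  have h1 : (y : X) ∈ X.basicOpen a ↔ (y : X) ∈ X.basicOpen a₁ := by
    rw [Scheme.basicOpen_res]
    exact ⟨fun h => ⟨hys, h⟩, fun h => h.2⟩
  have h2 : (y : X) ∈ X.basicOpen f ↔ (y : X) ∈ X.basicOpen (algebraMap Γ(X, ⊤) Γ(X, X.basicOpen s) f) := by
    change _ ↔ (y : X) ∈ X.basicOpen (X.presheaf.map (homOfLE (X.basicOpen_le s)).op f)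
    rw [Scheme.basicOpen_res]
    exact ⟨fun h => ⟨hys, h⟩, fun h => h.2⟩
  refine h1.trans (Iff.trans ?_ h2.symm)
  rw [← hf, Scheme.basicOpen_mul]
  refine ⟨fun h => ⟨h, ?_⟩, fun h => h.1⟩
  have hu : IsUnit (algebraMap Γ(X, ⊤) Γ(X, X.basicOpen s) s ^ n) :=
    (IsLocalization.Away.algebraMap_isUnit (S := Γ(X, X.basicOpen s)) s).pow n
  change (y : X) ∈ X.basicOpen (algebraMap Γ(X, ⊤) Γ(X, X.basicOpen s) s ^ n)
  rw [X.basicOpen_of_isUnit hu]
  exact hys

/-- Étale coordinates as a leaf. -/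
theorem leaf_of_coords {K B : Type u} [Field K] [CommRing B] [Algebra K B] {σ : Type} [Finite σ] (c : σ → B)
    (hc : (MvPolynomial.eval₂Hom (algebraMap K B) c).Etale) (J : Set σ) (V : (Spec (CommRingCat.of B)).Opens)
    (hV : ∀ y : PrimeSpectrum B, (y : Spec (CommRingCat.of B)) ∈ V ↔ ∀ i ∈ J, c i ∉ y.asIdeal) :
    Tree (Spec (CommRingCat.of K)) (Spec (CommRingCat.of B)) (Spec.map (CommRingCat.ofHom (algebraMap K B))) V := by
  let v : ULift.{u} σ → (CommRingCat.of B : CommRingCat.{u}) := fun i => c i.down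
  have h1 : (MvPolynomial.eval₂Hom (algebraMap K B) (fun i : ULift.{u} σ => c i.down)).Etale := by
    have h2 : MvPolynomial.eval₂Hom (algebraMap K B) (fun i : ULift.{u} σ => c i.down) =
        (MvPolynomial.eval₂Hom (algebraMap K B) c).comp
          ((MvPolynomial.renameEquiv K (Equiv.ulift.{u} : ULift.{u} σ ≃ σ)) : _ →+* _) := by
      apply MvPolynomial.ringHom_ext
      · intro r
        simp
      · intro i
        simp
    rw [h2]
    have h3 : ((MvPolynomial.renameEquiv K (Equiv.ulift.{u} : ULift.{u} σ ≃ σ) :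
        MvPolynomial (ULift.{u} σ) K →+* MvPolynomial σ K)).Etale := RingHom.Etale.of_bijective
      (MvPolynomial.renameEquiv K (Equiv.ulift.{u} : ULift.{u} σ ≃ σ)).bijective
    exact RingHom.Etale.stableUnderComposition _ _ h3 hc
  have h2 := K747.EtCoord.etale_homOfVector (R := CommRingCat.of K) (B := CommRingCat.of B)
    (CommRingCat.ofHom (algebraMap K B)) v h1
  refine Tree.leaf _ _ _ (ULift.{u} σ) inferInstance
    (fun i => (Scheme.ΓSpecIso (CommRingCat.of B)).inv (v i)) {i | i.down ∈ J} h2 ?_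
  intro y
  refine (hV y).trans ?_
  have h3 : ∀ i : ULift.{u} σ, y ∈ (Spec (CommRingCat.of B)).basicOpen
      ((Scheme.ΓSpecIso (CommRingCat.of B)).inv (v i)) ↔ c i.down ∉ y.asIdeal := by
    intro i
    rw [basicOpen_eq_of_affine (R := CommRingCat.of B) (v i)]
    rfl
  constructor
  · intro h i hi
    exact (h3 i).2 (h i.down hi)
  · intro h i hi
    exact (h3 ⟨i⟩).1 (h ⟨i⟩ hi)

/-- A strong leaf is, locally for the Zariski topology, a relative leaf. -/
theorem exists_nhd {K : Type u} [Field K] [IsAlgClosed K] {R : Type u} [CommRing R] [Algebra K R]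
    [Algebra.FiniteType K R] {ι : Type} [Finite ι] {z : ι → R} (h : SNC R z)
    (V : (Spec (CommRingCat.of R)).Opens) (hV : ∀ p : Spec (CommRingCat.of R), (∀ i, z i ∉ p.asIdeal) → p ∈ V)
    (hL : LocPrinc V) (p : Ideal R) [hp : p.IsMaximal] :
    ∃ (g : R) (B : Type u) (_ : CommRing B) (_ : Algebra R B), g ∉ p ∧ Algebra.Etale R B ∧
      (∀ y : PrimeSpectrum R, g ∉ y.asIdeal → y ∈ Set.range (PrimeSpectrum.comap (algebraMap R B))) ∧
      Tree (Spec (CommRingCat.of K)) (Spec (CommRingCat.of B))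
        (Spec.map (CommRingCat.ofHom (algebraMap R B)) ≫ Spec.map (CommRingCat.ofHom (algebraMap K R)))
        ((Spec.map (CommRingCat.ofHom (algebraMap R B))) ⁻¹ᵁ V) := by
  classical
  have := Fintype.ofFinite ι
  obtain ⟨s, f, hs, hsf⟩ := exists_global hL ⟨p, hp.isPrime⟩
  obtain ⟨N, hN⟩ : ∃ N : ℕ, f ∣ (s * ∏ i, z i) ^ N := by
    have h1 : PrimeSpectrum.basicOpen (s * ∏ i, z i) ≤ PrimeSpectrum.basicOpen f := by
      intro y hy
      have hy : s * ∏ i, z i ∉ y.asIdeal := hy
      have h2 : s ∉ y.asIdeal := fun h => hy (y.asIdeal.mul_mem_right _ h)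
      have h3 : ∀ i, z i ∉ y.asIdeal := fun i h => hy (y.asIdeal.mul_mem_left _
        (Ideal.mem_of_dvd _ (Finset.dvd_prod_of_mem z (Finset.mem_univ i)) h))
      exact (hsf y h2).1 (hV y h3)
    rw [PrimeSpectrum.basicOpen_le_basicOpen_iff] at h1
    obtain ⟨N, hN⟩ := h1
    exact ⟨N, Ideal.mem_span_singleton.1 hN⟩
  obtain ⟨a, x, y, hx, hy, hxy⟩ := TreeAlg.exists_monomial h ⟨p, hp.isPrime⟩ f s hs N hN
  obtain ⟨g₁, m, b, hg₁, het⟩ := TreeAlg.exists_coords (K := K) h p
  let w : R := ∏ i, if z i ∈ p then 1 else z i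
  have hw : w ∉ p := by
    intro hmem
    obtain ⟨i, -, hi⟩ := (Ideal.IsPrime.prod_mem_iff (hp := hp.isPrime)).1 hmem
    by_cases h1 : z i ∈ p
    · rw [if_pos h1] at hi
      exact hp.isPrime.one_notMem hi
    · rw [if_neg h1] at hi
      exact h1 hi
  have hwz : ∀ q : PrimeSpectrum R, w ∉ q.asIdeal → ∀ i, z i ∉ p → z i ∉ q.asIdeal := by
    intro q hq i hi hmem
    apply hq
    have h1 : z i ∣ w := by
      have := Finset.dvd_prod_of_mem (fun i => if z i ∈ p then (1 : R) else z i) (Finset.mem_univ i)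
      simp only [if_neg hi] at this
      exact this
    exact Ideal.mem_of_dvd _ h1 hmem
  let g₂ : R := s * (x * (y * w))
  have hg₂ : g₂ ∉ p := by
    have hpr := hp.isPrime
    exact fun h => (hpr.mem_or_mem h).elim hs fun h => (hpr.mem_or_mem h).elim hx fun h =>
      (hpr.mem_or_mem h).elim hy hw
  let R₁ := Localization.Away g₁
  let B := Localization.Away (algebraMap R R₁ g₂)
  have hB : IsLocalization.Away (g₁ * g₂) B := IsLocalization.Away.mul' R₁ B g₁ g₂
  have hpr := hp.isPrime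
  have hgp : g₁ * g₂ ∉ p := fun h => (hpr.mem_or_mem h).elim hg₁ hg₂
  have hBet : Algebra.Etale R B := Algebra.Etale.of_isLocalizationAway (g₁ * g₂)
  have hrange : Set.range (PrimeSpectrum.comap (algebraMap R B)) = PrimeSpectrum.basicOpen (g₁ * g₂) :=
    PrimeSpectrum.localization_away_comap_range B (g₁ * g₂)
  refine ⟨g₁ * g₂, B, inferInstance, inferInstance, hgp, hBet, fun y hy => ?_, ?_⟩
  · rw [hrange]
    exact hy
  have e1 : Spec.map (CommRingCat.ofHom (algebraMap R B)) ≫ Spec.map (CommRingCat.ofHom (algebraMap K R)) =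
      Spec.map (CommRingCat.ofHom (algebraMap K B)) := by
    rw [← Spec.map_comp, ← CommRingCat.ofHom_comp, ← IsScalarTower.algebraMap_eq]
  rw [e1]
  refine leaf_of_coords (σ := {i // z i ∈ p} ⊕ Fin m)
    (fun i => algebraMap R B (Sum.elim (fun i : {i // z i ∈ p} => z i) b i)) ?_
    {i | ∃ i' : {i // z i ∈ p}, i = Sum.inl i' ∧ a i' ≠ 0} _ ?_
  · have h2 : MvPolynomial.eval₂Hom (algebraMap K B)
        (fun i => algebraMap R B (Sum.elim (fun i : {i // z i ∈ p} => z i) b i)) =
        (algebraMap R₁ B).comp (MvPolynomial.eval₂Hom (algebraMap K R₁)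
          (fun i => algebraMap R R₁ (Sum.elim (fun i : {i // z i ∈ p} => z i) b i))) := by
      apply MvPolynomial.ringHom_ext
      · intro r
        simp [← IsScalarTower.algebraMap_apply]
      · intro i
        simp [← IsScalarTower.algebraMap_apply]
    rw [h2]
    have h3 : Algebra.Etale R₁ B := Algebra.Etale.of_isLocalizationAway (algebraMap R R₁ g₂)
    exact RingHom.Etale.stableUnderComposition _ _ het ((RingHom.etale_algebraMap).2 h3)
  · intro q
    let q' : PrimeSpectrum R := PrimeSpectrum.comap (algebraMap R B) q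
    have hq' : g₁ * g₂ ∉ q'.asIdeal := by
      have : q' ∈ Set.range (PrimeSpectrum.comap (algebraMap R B)) := ⟨q, rfl⟩
      rw [hrange] at this
      exact this
    have hdvd : ∀ r : R, r ∣ g₁ * g₂ → r ∉ q'.asIdeal := fun r hr h => hq' (Ideal.mem_of_dvd _ hr h)
    have k1 : s ∉ q'.asIdeal := hdvd s ((Dvd.intro _ rfl : s ∣ g₂).mul_left g₁)
    have k2 : x ∉ q'.asIdeal := hdvd x (((Dvd.intro _ rfl : x ∣ x * (y * w)).mul_left s).mul_left g₁)
    have k3 : y ∉ q'.asIdeal := hdvd y ((((Dvd.intro _ rfl : y ∣ y * w).mul_left x).mul_left s).mul_left g₁)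
    have k4 : w ∉ q'.asIdeal := hdvd w ((((Dvd.intro_left y rfl : w ∣ y * w).mul_left x).mul_left s).mul_left g₁)
    have hqp := q'.2
    change (q' : Spec (CommRingCat.of R)) ∈ V ↔ _
    rw [hsf q' k1]
    have e2 : f ∉ q'.asIdeal ↔ ∏ i, z i ^ a i ∉ q'.asIdeal := by
      constructor
      · intro h h'
        have h1 : y * f ∈ q'.asIdeal := hxy ▸ q'.asIdeal.mul_mem_left x h'
        exact (hqp.mem_or_mem h1).elim k3 h
      · intro h h'
        have h1 : x * ∏ i, z i ^ a i ∈ q'.asIdeal := hxy ▸ q'.asIdeal.mul_mem_left y h'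
        exact (hqp.mem_or_mem h1).elim k2 h
    rw [e2]
    constructor
    · rintro h1 _ ⟨i', rfl, hi'⟩ hmem
      apply h1
      have h4 : z i' ∈ q'.asIdeal := hmem
      refine Ideal.mem_of_dvd _ (Finset.dvd_prod_of_mem (fun i => z i ^ a i) (Finset.mem_univ i'.1)) ?_
      exact Ideal.pow_mem_of_mem _ h4 _ (Nat.pos_of_ne_zero hi')
    · intro h1 h2
      obtain ⟨i, -, hi⟩ := (Ideal.IsPrime.prod_mem_iff (hp := hqp)).1 h2
      have hai : a i ≠ 0 := by
        intro h0
        rw [h0, pow_zero] at hi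
        exact hqp.one_notMem hi
      have hzi : z i ∈ q'.asIdeal := hqp.mem_of_pow_mem _ hi
      have hip : z i ∈ p := by
        by_contra hn
        exact hwz q' k4 i hn hzi
      exact h1 (Sum.inl ⟨i, hip⟩) ⟨⟨i, hip⟩, rfl, hai⟩ hzi

/-- The case of a leaf. -/
theorem leaf_conv {K : Type u} [Field K] [IsAlgClosed K] {R : Type u} [CommRing R] {ι : Type} [Finite ι]
    {z : ι → R} (h : SNC R z) (V : (Spec (CommRingCat.of R)).Opens)
    (hV : ∀ p : Spec (CommRingCat.of R), (∀ i, z i ∉ p.asIdeal) → p ∈ V)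
    (q : Spec (CommRingCat.of R) ⟶ Spec (CommRingCat.of K)) [LocallyOfFiniteType q] (hL : LocPrinc V) :
    Tree (Spec (CommRingCat.of K)) (Spec (CommRingCat.of R)) q V := by
  classical
  obtain ⟨φ, rfl⟩ : ∃ φ, q = Spec.map φ := ⟨_, (Spec.map_preimage q).symm⟩
  let _ : Algebra K R := φ.hom.toAlgebra
  have hft : Algebra.FiniteType K R := by
    have h1 : LocallyOfFiniteType (Spec.map φ) := inferInstance
    rw [HasRingHomProperty.Spec_iff (P := @LocallyOfFiniteType)] at h1
    exact h1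
  let S : Set R := {g | ∃ (B : Type u) (_ : CommRing B) (_ : Algebra R B), Algebra.Etale R B ∧
      (∀ y : PrimeSpectrum R, g ∉ y.asIdeal → y ∈ Set.range (PrimeSpectrum.comap (algebraMap R B))) ∧
      Tree (Spec (CommRingCat.of K)) (Spec (CommRingCat.of B))
        (Spec.map (CommRingCat.ofHom (algebraMap R B)) ≫ Spec.map φ)
        ((Spec.map (CommRingCat.ofHom (algebraMap R B))) ⁻¹ᵁ V)}
  have hS : Ideal.span S = ⊤ := by
    by_contra hne
    obtain ⟨p, hp, hle⟩ := Ideal.exists_le_maximal _ hne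
    obtain ⟨g, B, iB, iA, hg, het, hr, ht⟩ := exists_nhd (K := K) h V hV hL p
    exact hg (hle (Ideal.subset_span ⟨B, iB, iA, het, hr, ht⟩))
  rw [Ideal.span_eq_top_iff_finite] at hS
  obtain ⟨s', hs', hs1⟩ := hS
  let e := s'.equivFin
  have hmem : ∀ a : Fin s'.card, ((e.symm a : s') : R) ∈ S := fun a => hs' (e.symm a).2
  choose B iB iA het hr ht using hmem
  refine Tree.etale _ _ (fun a => Spec (CommRingCat.of (B a)))
    (fun a => Spec.map (CommRingCat.ofHom (algebraMap R (B a)))) (fun a => ?_) (fun a => inferInstance) ?_ ht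
  · rw [HasRingHomProperty.Spec_iff (P := @Etale)]
    exact (RingHom.etale_algebraMap).2 (het a)
  · intro x
    by_contra hcon
    push Not at hcon
    have h1 : ∀ g ∈ s', g ∈ x.asIdeal := by
      intro g hg
      by_contra hgx
      let a := e ⟨g, hg⟩
      apply hcon a
      have h2 : ((e.symm a : s') : R) = g := by
        rw [show e.symm a = ⟨g, hg⟩ from e.symm_apply_apply _]
      have h3 := hr a x (by rw [h2]; exact hgx)
      exact h3
    have h2 : Ideal.span (s' : Set R) ≤ x.asIdeal := Ideal.span_le.2 h1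
    rw [hs1] at h2
    exact x.isPrime.ne_top (top_le_iff.1 h2)

theorem conv_aux {K : Type u} [Field K] [IsAlgClosed K] {X : Scheme.{u}} {V : X.Opens} (h : STree X V) :
    ∀ (p : X ⟶ Spec (CommRingCat.of K)) (_ : LocallyOfFiniteType p) (_ : LocPrinc V),
      Tree (Spec (CommRingCat.of K)) X p V := by
  induction h with
  | leaf R z h V hV =>
    intro p hp hL
    exact leaf_conv h V hV p hL
  | etale V Y f h1 h2 h3 h ih =>
    intro p hp hL
    refine Tree.etale p V Y f h1 h2 h3 fun a => ih a (f a ≫ p) ?_ (LocPrinc.preimage (f a) hL)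
    have := h1 a
    infer_instance
  | proper V Y f h1 h3 h ih =>
    intro p hp hL
    refine Tree.proper p V Y f h1 (fun x _ => h3 x) fun a => ih a (f a ≫ p) ?_ (LocPrinc.preimage (f a) hL)
    have := h1 a
    infer_instance

/-- **TREE-CONV.** -/
theorem conv {K : Type u} [Field K] [IsAlgClosed K] {X : Scheme.{u}} {V : X.Opens} (h : STree X V)
    (p : X ⟶ Spec (CommRingCat.of K)) [LocallyOfFiniteType p] (hV : LocPrinc V) :
    Tree (Spec (CommRingCat.of K)) X p V := conv_aux h p inferInstance hV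

end K361.TreeConv
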