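import Mathlib.RingTheory.Kaehler.Basic
import Mathlib.RingTheory.Ideal.Cotangent
import Mathlib.RingTheory.LocalRing.ResidueField.Ideal
import Mathlib.RingTheory.Nullstellensatz
import Mathlib.RingTheory.Derivation.Basic

/-!
# Differentials at rational points: independence in the cotangent space implies independence of the differentials
-/

set_option autoImplicit false
universe u v

open TensorProduct KaehlerDifferential IsLocalRing

namespace K361.DiffInd

variable {K : Type v} {A : Type u} [CommRing K] [CommRing A] [IsLocalRing A] [Algebra K A] (ε : A →ₐ[K] K)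

theorem sub_mem (hε : RingHom.ker ε = maximalIdeal A) (x : A) : x - algebraMap K A (ε x) ∈ maximalIdeal A := by
  rw [← hε, RingHom.mem_ker, map_sub, ε.commutes]
  exact sub_self _

/-- The map `x ↦ x - x(p)`. -/
noncomputable def fl (hε : RingHom.ker ε = maximalIdeal A) : A →ₗ[K] maximalIdeal A where
  toFun x := ⟨x - algebraMap K A (ε x), sub_mem ε hε x⟩
  map_add' x y := Subtype.ext (by
    change x + y - algebraMap K A (ε (x + y)) = (x - algebraMap K A (ε x)) + (y - algebraMap K A (ε y))
    rw [map_add, map_add]; ring)
  map_smul' c x := Subtype.ext (by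
    change c • x - algebraMap K A (ε (c • x)) = c • (x - algebraMap K A (ε x))
    rw [map_smul, smul_eq_mul, map_mul, Algebra.smul_def, Algebra.smul_def]; ring)

theorem leibniz (hε : RingHom.ker ε = maximalIdeal A) (x y : A) :
    (maximalIdeal A).toCotangent (fl ε hε (x * y)) = x • (maximalIdeal A).toCotangent (fl ε hε y) +
      y • (maximalIdeal A).toCotangent (fl ε hε x) := by
  rw [← LinearMap.map_smul, ← LinearMap.map_smul, ← LinearMap.map_add, Ideal.toCotangent_eq]
  change (x * y - algebraMap K A (ε (x * y))) - (x * (y - algebraMap K A (ε y)) + y * (x - algebraMap K A (ε x))) ∈ _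
  have h1 : (x * y - algebraMap K A (ε (x * y))) - (x * (y - algebraMap K A (ε y)) + y * (x - algebraMap K A (ε x))) =
      - ((x - algebraMap K A (ε x)) * (y - algebraMap K A (ε y))) := by
    rw [map_mul, map_mul]; ring
  rw [h1, neg_mem_iff, pow_two]
  exact Ideal.mul_mem_mul (sub_mem ε hε x) (sub_mem ε hε y)

/-- The derivation `x ↦ x - x(p)` with values in the cotangent space. -/
noncomputable def der (hε : RingHom.ker ε = maximalIdeal A) : Derivation K A (maximalIdeal A).Cotangent :=
  Derivation.mk' (((maximalIdeal A).toCotangent.restrictScalars K).comp (fl ε hε)) (leibniz ε hε)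

theorem der_apply (hε : RingHom.ker ε = maximalIdeal A) (x : A) (hx : x ∈ maximalIdeal A) :
    der ε hε x = (maximalIdeal A).toCotangent ⟨x, hx⟩ := by
  have h1 : ε x = 0 := by
    rw [← hε, RingHom.mem_ker] at hx
    exact hx
  change (maximalIdeal A).toCotangent (fl ε hε x) = _
  congr 1
  apply Subtype.ext
  change x - algebraMap K A (ε x) = x
  rw [h1, map_zero, sub_zero]

/-- Independence in the cotangent space implies independence of the differentials. -/
theorem linearIndependent {B : Type u} [CommRing B] [Algebra K B] (p : Ideal B) [p.IsPrime]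
    (ε : Localization.AtPrime p →ₐ[K] K) (hε : RingHom.ker ε = maximalIdeal (Localization.AtPrime p))
    {ι : Type*} (t : ι → B) (ht : ∀ i, algebraMap B (Localization.AtPrime p) (t i) ∈
      maximalIdeal (Localization.AtPrime p))
    (h : LinearIndependent (ResidueField (Localization.AtPrime p)) (fun i =>
      (maximalIdeal (Localization.AtPrime p)).toCotangent ⟨algebraMap B (Localization.AtPrime p) (t i), ht i⟩)) :
    LinearIndependent p.ResidueField (fun i => (1 : p.ResidueField) ⊗ₜ[B] D K B (t i)) := by
  let δ : Derivation K B (maximalIdeal (Localization.AtPrime p)).Cotangent := (der ε hε).compAlgebraMap B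
  let l : Ω[B⁄K] →ₗ[B] (maximalIdeal (Localization.AtPrime p)).Cotangent := δ.liftKaehlerDifferential
  have tw : IsScalarTower B p.ResidueField (CotangentSpace (Localization.AtPrime p)) := by
    refine IsScalarTower.of_algebraMap_smul fun r x => ?_
    rw [IsScalarTower.algebraMap_apply B (Localization.AtPrime p) p.ResidueField]
    refine (algebraMap_smul (R := Localization.AtPrime p) p.ResidueField _ x).trans ?_
    exact algebraMap_smul (R := B) (Localization.AtPrime p) r x
  let L : p.ResidueField ⊗[B] Ω[B⁄K] →ₗ[p.ResidueField] CotangentSpace (Localization.AtPrime p) :=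
    LinearMap.liftBaseChange p.ResidueField l
  refine LinearIndependent.of_comp L ?_
  convert h using 1
  ext i
  change L (1 ⊗ₜ D K B (t i)) = _
  rw [LinearMap.liftBaseChange_tmul, one_smul]
  change δ.liftKaehlerDifferential (D K B (t i)) = _
  rw [Derivation.liftKaehlerDifferential_comp_D]
  exact der_apply ε hε _ (ht i)

end K361.DiffInd
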