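import Groth.Agent.EtAcyc.K361.DiffInd
import Groth.Agent.EtDl.K556.Mono
import Groth.Agent.EtDl.K852.AbhB
import Groth.Agent.SmVar.K658.SmAlg
import Groth.Agent.Vanish.K27.Coord

/-!
# Étale coordinates adapted to a strict normal crossings family, over an algebraically closed field
-/

set_option autoImplicit false
universe u

open TensorProduct KaehlerDifferential IsLocalRing

namespace K361.TreeAlg

open K556.CertDef K556.SncAlg K556.Mono

/-- Divisors of monomials are locally monomials. -/
theorem exists_monomial {R : Type u} [CommRing R] {ι : Type} [Fintype ι] {z : ι → R} (h : SNC R z)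
    (p : PrimeSpectrum R) (f s : R) (hs : s ∉ p.asIdeal) (N : ℕ) (hf : f ∣ (s * ∏ i, z i) ^ N) :
    ∃ (a : ι → ℕ) (x y : R), x ∉ p.asIdeal ∧ y ∉ p.asIdeal ∧ y * f = x * ∏ i, z i ^ a i := by
  have hreg := SNC.isRegularRing h
  have := hreg.isRegularLocalRing_localization p.asIdeal
  have hdom : IsDomain (Localization.AtPrime p.asIdeal) := Groth.Agent.S0558.result _
  have hf' : algebraMap R (Localization.AtPrime p.asIdeal) f ∣
      (∏ i, algebraMap R (Localization.AtPrime p.asIdeal) (z i)) ^ N := by
    have h1 : algebraMap R (Localization.AtPrime p.asIdeal) f ∣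
        algebraMap R (Localization.AtPrime p.asIdeal) ((s * ∏ i, z i) ^ N) := map_dvd _ hf
    rw [map_pow, map_mul, mul_pow, map_prod] at h1
    have hu : IsUnit (algebraMap R (Localization.AtPrime p.asIdeal) s ^ N) :=
      (IsLocalization.map_units _ (⟨s, hs⟩ : p.asIdeal.primeCompl)).pow N
    exact (hu.dvd_mul_left).1 h1
  obtain ⟨a, v, hv, hfv⟩ := dvd_prod_pow _ (prime_or_unit h p) _ N hf'
  obtain ⟨⟨x, y⟩, hxy⟩ := IsLocalization.surj p.asIdeal.primeCompl v
  simp only at hxy
  have hx : x ∉ p.asIdeal := by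
    intro hx
    have h1 : IsUnit (algebraMap R (Localization.AtPrime p.asIdeal) x) := by
      rw [← hxy]
      exact hv.mul (IsLocalization.map_units _ y)
    exact (IsLocalization.AtPrime.isUnit_to_map_iff (Localization.AtPrime p.asIdeal) p.asIdeal x).1 h1 hx
  have h1 : algebraMap R (Localization.AtPrime p.asIdeal) (y * f) =
      algebraMap R (Localization.AtPrime p.asIdeal) (x * ∏ i, z i ^ a i) := by
    rw [map_mul, map_mul, hfv, ← hxy, map_prod]
    simp only [map_pow]
    ring
  obtain ⟨c, hc⟩ := (IsLocalization.eq_iff_exists p.asIdeal.primeCompl _).1 h1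
  refine ⟨a, c * x, c * y, ?_, ?_, ?_⟩
  · exact p.asIdeal.primeCompl.mul_mem c.2 hx
  · exact p.asIdeal.primeCompl.mul_mem c.2 y.2
  · rw [mul_assoc, mul_assoc]
    exact hc

/-- The evaluation at a maximal ideal. -/
theorem exists_eval {K : Type u} [Field K] [IsAlgClosed K] {R : Type u} [CommRing R] [Algebra K R]
    [Algebra.FiniteType K R] (p : Ideal R) [hp : p.IsMaximal] :
    ∃ ε : Localization.AtPrime p →ₐ[K] K, RingHom.ker ε = maximalIdeal (Localization.AtPrime p) := by
  let := Ideal.Quotient.field p
  have h0 : Module.Finite K (R ⧸ p) := finite_of_finite_type_of_isJacobsonRing K (R ⧸ p)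
  have h1 : Function.Bijective (algebraMap K (R ⧸ p)) := IsAlgClosed.algebraMap_bijective_of_isIntegral
  have h2 : Function.Bijective (algebraMap (R ⧸ p) p.ResidueField) :=
    Ideal.bijective_algebraMap_quotient_residueField p
  have h3 : Function.Bijective (algebraMap K p.ResidueField) := by
    rw [IsScalarTower.algebraMap_eq K (R ⧸ p) p.ResidueField]
    exact h2.comp h1
  let e : K ≃ₐ[K] p.ResidueField := AlgEquiv.ofBijective (Algebra.ofId K p.ResidueField) h3
  let r : Localization.AtPrime p →ₐ[K] p.ResidueField := IsScalarTower.toAlgHom K (Localization.AtPrime p) _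
  refine ⟨(e.symm : p.ResidueField →ₐ[K] K).comp r, ?_⟩
  ext x
  rw [RingHom.mem_ker]
  change e.symm (r x) = 0 ↔ _
  rw [EmbeddingLike.map_eq_zero_iff, ← IsLocalRing.ker_residue, RingHom.mem_ker]
  rfl

/-- Adapted étale coordinates. -/
theorem exists_coords {K : Type u} [Field K] [IsAlgClosed K] {R : Type u} [CommRing R] [Algebra K R]
    [Algebra.FiniteType K R] {ι : Type} [Finite ι] {z : ι → R} (h : SNC R z) (p : Ideal R) [p.IsMaximal] :
    ∃ (g : R) (m : ℕ) (b : Fin m → R), g ∉ p ∧
      (MvPolynomial.eval₂Hom (algebraMap K (Localization.Away g))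
        (fun i => algebraMap R (Localization.Away g) (Sum.elim (fun i : {i // z i ∈ p} => z i) b i))).Etale := by
  have hreg := SNC.isRegularRing h
  have hsm : Algebra.Smooth K R := (K658.SmAlg.smooth_iff_isRegularRing K R).2 hreg
  obtain ⟨ε, hε⟩ := exists_eval (K := K) p
  apply K27.Coord.exists_etale K R p
  have hm : ∀ i : {i // z i ∈ p}, algebraMap R (Localization.AtPrime p) (z i) ∈
      maximalIdeal (Localization.AtPrime p) := fun i =>
    (IsLocalization.AtPrime.to_map_mem_maximal_iff (Localization.AtPrime p) p _).2 i.2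
  refine K361.DiffInd.linearIndependent p ε hε (fun i : {i // z i ∈ p} => z i) hm ?_
  obtain ⟨r, ⟨e⟩⟩ := Finite.exists_equiv_fin {i // z i ∈ p}
  have h1 := K852.AbhB.linearIndependent (p := p) h (fun j => (e.symm j : ι))
    (Subtype.val_injective.comp e.symm.injective) (fun j => hm (e.symm j))
  rw [← linearIndependent_equiv e.symm]
  exact h1

end K361.TreeAlg
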